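import Groth.Agent.GitQuot.StkSlice.Univ
import Groth.Agent.StkRed.PairChart
import Groth.Agent.AlgStBasic.SpaceCalc
import Groth.Agent.AlgStBasic.SpaceProps
import Groth.Agent.AlgStBasic.DiagCalc
import Groth.Agent.AlgSpBasic.SepLQFScheme
import Groth.Agent.AlgStImm.Criteria

/-!
# The arrows of a chart form a scheme when the diagonal is separated and locally quasi-finite
-/

set_option autoImplicit false
set_option backward.isDefEq.respectTransparency false
set_option backward.isDefEq.respectTransparency.types false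

universe v₂ u₂ u

open CategoryTheory CategoryTheory.Limits AlgebraicGeometry
open Groth.StkBase Groth.AlgStBasic Groth.AlgSpBasic

noncomputable section

namespace Groth.StkSlice

variable {S : Scheme.{u}}

theorem hom_isVert_eq {T : Over S} {U : Over S} {a b : T ⟶ U}
    (f : (Over.mk a : (FibCat.overCat U).obj) ⟶ Over.mk b) (hf : IsVert (FibCat.overCat U).p f) :
    a = b := by
  obtain ⟨_, e⟩ := hf
  have h1 : f.left = 𝟙 T := e
  have := Over.w f
  rw [h1] at this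
  exact this.symm.trans (Category.id_comp _)

/-- The product of `U` with itself over `S`. -/
def sq (U : Over S) : Over S := Over.mk (pullback.fst U.hom U.hom ≫ U.hom)

/-- The first projection. -/
def sqFst (U : Over S) : sq U ⟶ U := Over.homMk (pullback.fst U.hom U.hom) rfl

/-- The second projection. -/
def sqSnd (U : Over S) : sq U ⟶ U :=
  Over.homMk (pullback.snd U.hom U.hom) pullback.condition.symm

/-- Two functors to the base are isomorphic. -/
def selfIso {𝒵 : BasedCategory.{v₂, u₂} (Over S)} (F G : 𝒵 ⥤ᵇ FibCat.selfOver (Over S)) : F ≅ G :=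
  isoMk (fun a => eqToIso ((F.w_obj a).trans (G.w_obj a).symm))
    (fun {a b} φ => by
      have h₁ : F.map φ = _ := map_map F φ
      have h₂ : G.map φ = _ := map_map G φ
      rw [h₁, h₂]
      simp)
    (fun a => ⟨(F.w_obj a).trans (G.w_obj a).symm, rfl⟩)

/-- Squares in the base commute. -/
theorem self_comm {U : Over S} (F G : FibCat.overCat U ⥤ᵇ FibCat.selfOver (Over S))
    {a b a' b' : (FibCat.overCat U).obj} (f : a ⟶ a') (g : b ⟶ b') (h : a.left = b.left)
    (h' : a'.left = b'.left) (hfg : f.left ≫ eqToHom h' = eqToHom h ≫ g.left)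
    {i : F.obj a ⟶ G.obj b} {j : F.obj a' ⟶ G.obj b'}
    (hi : IsVert (FibCat.selfOver (Over S)).p i) (hj : IsVert (FibCat.selfOver (Over S)).p j) :
    F.map f ≫ j = i ≫ G.map g := by
  have h₁ : F.map f = eqToHom (F.w_obj a) ≫ f.left ≫ eqToHom (F.w_obj a').symm := map_map F f
  have h₂ : G.map g = eqToHom (G.w_obj b) ≫ g.left ≫ eqToHom (G.w_obj b').symm := map_map G g
  have h₃ : i = eqToHom hi.obj_eq := hi.map_eq
  have h₄ : j = eqToHom hj.obj_eq := hj.map_eq
  obtain ⟨T, ⟨⟨⟩⟩, a⟩ := a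
  obtain ⟨T₂, ⟨⟨⟩⟩, b⟩ := b
  obtain ⟨V, ⟨⟨⟩⟩, a'⟩ := a'
  obtain ⟨V₂, ⟨⟨⟩⟩, b'⟩ := b'
  obtain rfl : T = T₂ := h
  obtain rfl : V = V₂ := h'
  have hfg' : f.left = g.left := by simpa using hfg
  rw [h₁, h₂, h₃, h₄, hfg']
  simp

variable {𝒳 : AlgSt.Cat S} {U : Over S} (x : FibCat.overCat U ⥤ᵇ 𝒳)

/-- `U ×_S U` as a 2-fibre product over the base. -/
def sqFun : FibCat.overCat (sq U) ⥤ᵇ
    FibCat.fp (BasedFunctor.comp x (FibCat.toSelf 𝒳)) (BasedFunctor.comp x (FibCat.toSelf 𝒳)) :=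
  FibCat.fpLift (AlgSt.overMap (sqFst U)) (AlgSt.overMap (sqSnd U)) (selfIso _ _)

theorem isEquivOver_sqFun : FibCat.IsEquivOver (sqFun x) := by
  refine isEquivOver_of_universal
    (fp_isFibSetoid (isFibSetoid_overCat U) (isFibSetoid_overCat U) isFibGrpd_selfOver) _
    (z₀ := (sqFun x).obj (idObj (sq U))) rfl (Iso.refl _) (isVert_id _) fun z => ?_
  have hz := fp_p_snd z
  obtain ⟨⟨⟨T, ⟨⟨⟩⟩, a⟩, ⟨T₂, ⟨⟨⟩⟩, b⟩, e⟩, he⟩ := z
  obtain rfl : T₂ = T := hz
  let q : T₂ ⟶ sq U := Over.homMk (pullback.lift a.left b.left ((Over.w a).trans (Over.w b).symm))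
    (show pullback.lift _ _ _ ≫ pullback.fst _ _ ≫ U.hom = T₂.hom by
      rw [pullback.lift_fst_assoc]; exact Over.w a)
  refine ⟨q, ⟨?_, ?_⟩, ?_⟩
  · refine fpHom (Over.homMk q ?_) (Over.homMk q ?_) ?_
    · ext
      show pullback.lift _ _ _ ≫ 𝟙 _ ≫ pullback.fst _ _ = a.left
      rw [Category.id_comp, pullback.lift_fst]
    · ext
      show pullback.lift _ _ _ ≫ 𝟙 _ ≫ pullback.snd _ _ = b.left
      rw [Category.id_comp, pullback.lift_snd]
    · refine self_comm (a := Over.mk a) (b := Over.mk b) (a' := ((sqFun x).obj (idObj (sq U))).obj.fst) (b' := ((sqFun x).obj (idObj (sq U))).obj.snd) (BasedFunctor.comp x (FibCat.toSelf 𝒳)) (BasedFunctor.comp x (FibCat.toSelf 𝒳)) _ _ rfl rfl ?_ (fp_isVert (⟨⟨⟨T₂, ⟨⟨⟩⟩, a⟩, ⟨T₂, ⟨⟨⟩⟩, b⟩, e⟩, he⟩ :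
          (FibCat.fp (BasedFunctor.comp x (FibCat.toSelf 𝒳))
            (BasedFunctor.comp x (FibCat.toSelf 𝒳))).obj))
        (fp_isVert ((sqFun x).obj (idObj (sq U))))
      exact (Category.comp_id q).trans (Category.id_comp q).symm
  · exact (Category.comp_id _).symm
  · rintro q ⟨φ, hφ⟩
    have h₁ : φ.hom.fst.left = q := hφ.trans (Category.comp_id q)
    have h₂ : φ.hom.snd.left = q := by
      have := fp_map_snd φ
      rw [show (FibCat.overCat U).p.map φ.hom.fst = q from h₁] at this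
      exact this.trans (by simp)
    apply Over.OverMorphism.ext
    apply pullback.hom_ext
    · have := congrArg Over.Hom.left (Over.w φ.hom.fst)
      rw [h₁] at this
      erw [pullback.lift_fst]
      simpa [sqFun, sqFst, AlgSt.overMap, idObj] using this
    · have := congrArg Over.Hom.left (Over.w φ.hom.snd)
      rw [h₂] at this
      erw [pullback.lift_snd]
      simpa [sqFun, sqSnd, AlgSt.overMap, idObj] using this

/-- The arrows of a chart form a scheme, locally quasi-finite over pairs of objects. -/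
theorem exists_chart_groupoid (hX : FibCat.IsFibGrpd 𝒳.p)
    (hΔ : AlgSt.RepByAlgSpWith AlgSp.IsSeparatedMor (FibCat.diag (FibCat.toSelf 𝒳)))
    (hqf : AlgSt.IsQuasiDMOver 𝒳) (hx : AlgSt.RepByAlgSpWith (AlgSp.LocP @Smooth) x) :
    ∃ (R : Over S) (ω : Arr x R) (c : R ⟶ sq U), Univ hX ω ∧ c ≫ sqFst U = ω.src ∧
      c ≫ sqSnd U = ω.tgt ∧ Smooth ω.src.left ∧ LocallyQuasiFinite c.left ∧
      LocallyOfFiniteType c.left := by
  obtain ⟨M', hM', -, ⟨β⟩⟩ := isEquivOver_symm (isEquivOver_sqFun x)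
  let Φ := BasedFunctor.comp (fpPost x x (FibCat.toSelf 𝒳)) M'
  have hΦ := (repWith_postcomp_equiv _ hM').2
    (repWith_fpPost (F := x) (G := x) (AlgStBasic.repWith_inf stableBaseChange_locP hΔ hqf))
  obtain ⟨F, e, he, hsep, hψ⟩ := hΦ (sq U) (BasedFunctor.id _)
  obtain ⟨R, ⟨i⟩⟩ := exists_iso_of_separated_lqf F.property hψ hsep
  let π := FibCat.fpFst (BasedFunctor.id (FibCat.overCat (sq U))) Φ
  let Φ₀ := BasedFunctor.comp (AlgSt.ofSpMap i.hom) (BasedFunctor.comp e π)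
  let ψ := AlgSt.spMapOfOver (BasedFunctor.comp e π)
  obtain ⟨c, hc⟩ := (AlgSp.yon S).map_surjective (i.hom ≫ ψ)
  have hc₀ : (AlgSp.yon S).map c = AlgSt.spMapOfOver Φ₀ := by
    rw [hc]
    apply ObjectProperty.hom_ext
    rw [spMapOfOver_hom_eq Φ₀]
    show i.hom.hom ≫ ψ.hom = _
    rw [spMapOfOver_hom_eq, ← pshMapOf_ofPshMap i.hom.hom, ← pshMapOf_comp]
    rfl
  have hcp : AlgSp.LocP (@LocallyQuasiFinite ⊓ @LocallyOfFiniteType) ((AlgSp.yon S).map c) := by
    have := (stableBaseChange_locP (S := S)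
      (P := @LocallyQuasiFinite ⊓ @LocallyOfFiniteType)).respectsIso
    rw [hc]
    exact (MorphismProperty.cancel_left_of_respectsIso _ _ _).2 hψ
  obtain ⟨γ⟩ := StkRed.iso_overMap_of_spMap Φ₀ c hc₀
  let E : FibCat.overCat R ⥤ᵇ FibCat.fp x x :=
    BasedFunctor.comp (AlgSt.ofOverCat R) (BasedFunctor.comp (AlgSt.ofSpMap i.hom)
      (BasedFunctor.comp e (FibCat.fpSnd (BasedFunctor.id _) Φ)))
  have hE : FibCat.IsEquivOver E :=
    isEquivOver_comp (isEquivOver_ofOverCat R) (isEquivOver_comp (AlgStImm.isEquivOver_ofSpMap i)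
      (isEquivOver_comp he (isEquivOver_fpSnd_id (F := Φ))))
  let κ : BasedFunctor.comp E Φ ≅ AlgSt.overMap c :=
    (whiskerLeftIso (BasedFunctor.comp (AlgSt.ofOverCat R) (BasedFunctor.comp (AlgSt.ofSpMap i.hom) e))
      (FibCat.fpIso (BasedFunctor.id _) Φ).symm).trans γ
  let κ' : BasedFunctor.comp E (fpPost x x (FibCat.toSelf 𝒳))
      ≅ BasedFunctor.comp (AlgSt.overMap c) (sqFun x) :=
    (whiskerLeftIso (BasedFunctor.comp E (fpPost x x (FibCat.toSelf 𝒳))) β).symm.trans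
      (whiskerRightIso κ (sqFun x))
  let α₁ : BasedFunctor.comp E (FibCat.fpFst x x) ≅ AlgSt.overMap (c ≫ sqFst U) :=
    (whiskerRightIso κ' (FibCat.fpFst _ _)).trans (Groth.AlgStDVR.overMapComp c (sqFst U))
  let α₂ : BasedFunctor.comp E (FibCat.fpSnd x x) ≅ AlgSt.overMap (c ≫ sqSnd U) :=
    (whiskerRightIso κ' (FibCat.fpSnd _ _)).trans (Groth.AlgStDVR.overMapComp c (sqSnd U))
  obtain ⟨ω, j, hj, hω⟩ := exists_univ hX E hE
  have hs : ω.src = c ≫ sqFst U :=
    (hom_isVert_eq (U := U) (a := ω.src) (b := 𝟙 R ≫ c ≫ sqFst U)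
      (j.hom.hom.fst ≫ (isoApp α₁ (idObj R)).hom)
      (((isVert_fp_iff j.hom).1 hj).comp (isVert_isoApp α₁ _))).trans (Category.id_comp _)
  have ht : ω.tgt = c ≫ sqSnd U :=
    (hom_isVert_eq (U := U) (a := ω.tgt) (b := 𝟙 R ≫ c ≫ sqSnd U)
      (j.hom.hom.snd ≫ (isoApp α₂ (idObj R)).hom)
      ((isVert_map (F := FibCat.fpSnd x x) hj).comp (isVert_isoApp α₂ _))).trans (Category.id_comp _)
  refine ⟨R, ω, c, hω, hs.symm, ht.symm, ?_, (left_prop_of_locP_yon hcp).1,
    (left_prop_of_locP_yon hcp).2⟩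
  let E' := BasedFunctor.comp (AlgSt.toOverCat R) E
  have hq := prop_of_repWith_fp stableBaseChange_locP hx x
    ⟨(AlgSp.yon S).obj R, AlgSp.IsAlgSpace.yon_obj R⟩ E'
    (isEquivOver_comp (isEquivOver_toOverCat R) hE)
  rw [hs]
  refine left_prop_of_locP_yon ?_
  rw [← spMapOfOver_toOverCat]
  rw [← spMapOfOver_congr (whiskerLeftIso (AlgSt.toOverCat R) α₁)]
  exact hq

end Groth.StkSlice
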