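import Groth.Agent.GitQuot.StkSlice.Univ
import Groth.Agent.StkBase.Yoneda
import Groth.Prelude.Def_AlgSt3

/-!
# The fibre product of a chart with a pullback of itself
-/

set_option autoImplicit false
set_option backward.isDefEq.respectTransparency false
set_option backward.isDefEq.respectTransparency.types false

universe u

open CategoryTheory CategoryTheory.Limits AlgebraicGeometry
open Groth.StkBase

noncomputable section

namespace Groth.StkSlice

variable {S : Scheme.{u}} {𝒳 : AlgSt.Cat S} {U : Over S} {x : FibCat.overCat U ⥤ᵇ 𝒳} {R : Over S}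

/-- Replace the target by an equal one. -/
def Arr.retarget {T : Over S} (A : Arr x T) {c : T ⟶ U} (h : A.tgt = c) : Arr x T where
  src := A.src
  tgt := c
  hom := A.hom ≫ eqToHom (congrArg (fun d => x.obj (Over.mk d)) h)
  vert := A.vert.comp (isVert_eqToHom _)

theorem Arr.retarget_eq {T : Over S} (A : Arr x T) {c : T ⟶ U} (h : A.tgt = c) :
    A.retarget h = A := by
  subst h
  exact Arr.ext' rfl rfl (by simp [Arr.retarget])

variable (ω : Arr x R) {W : Over S} (g : W ⟶ U)

/-- `W ×_U R` for the target map. -/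
def tgtPull : Over S := Over.mk (pullback.snd g.left ω.tgt.left ≫ R.hom)

/-- The projection to `R`. -/
def tgtPullArr : tgtPull ω g ⟶ R := Over.homMk (pullback.snd g.left ω.tgt.left) rfl

/-- The projection to `W`. -/
def tgtPullPt : tgtPull ω g ⟶ W := Over.homMk (pullback.fst g.left ω.tgt.left) (by
  show pullback.fst _ _ ≫ W.hom = pullback.snd _ _ ≫ R.hom
  calc pullback.fst g.left ω.tgt.left ≫ W.hom
      = (pullback.fst g.left ω.tgt.left ≫ g.left) ≫ U.hom := by rw [Category.assoc, Over.w g]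
    _ = (pullback.snd g.left ω.tgt.left ≫ ω.tgt.left) ≫ U.hom := by rw [pullback.condition]
    _ = pullback.snd g.left ω.tgt.left ≫ R.hom := by rw [Category.assoc, Over.w ω.tgt])

theorem tgtPull_cond : tgtPullArr ω g ≫ ω.tgt = tgtPullPt ω g ≫ g :=
  Over.OverMorphism.ext pullback.condition.symm

variable {ω}

theorem exists_chart_fp {hX : FibCat.IsFibGrpd 𝒳.p} (hω : Univ hX ω) :
    ∃ L : FibCat.overCat (tgtPull ω g) ⥤ᵇ FibCat.fp x (BasedFunctor.comp (AlgSt.overMap g) x),
      FibCat.IsEquivOver L ∧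
      Nonempty (BasedFunctor.comp L (FibCat.fpFst _ _) ≅
        AlgSt.overMap (tgtPullArr ω g ≫ ω.src)) ∧
      Nonempty (BasedFunctor.comp L (FibCat.fpSnd _ _) ≅ AlgSt.overMap (tgtPullPt ω g)) := by
  let w := BasedFunctor.comp (AlgSt.overMap g) x
  let B := (ω.pull hX (tgtPullArr ω g)).retarget (tgtPull_cond ω g)
  have hB : B = ω.pull hX (tgtPullArr ω g) := Arr.retarget_eq _ _
  have := B.vert.isIso hX
  let z₀ : (FibCat.fp x w).obj :=
    fpMk (F := x) (G := w) (Over.mk B.src) (Over.mk (tgtPullPt ω g)) (asIso B.hom) B.vert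
  have hfp : FibCat.IsFibSetoid (FibCat.fp x w).p :=
    fp_isFibSetoid (isFibSetoid_overCat U) (isFibSetoid_overCat W) hX
  let L := overFunctor hfp.1 z₀ (rfl : (FibCat.fp x w).p.obj z₀ = tgtPull ω g)
  obtain ⟨i, hi⟩ := overFunctor_eval hfp.1 z₀ (rfl : (FibCat.fp x w).p.obj z₀ = tgtPull ω g)
  refine ⟨L, isEquivOver_of_universal hfp L rfl i hi fun z => ?_, ?_, ?_⟩
  · have hz := fp_p_snd z
    obtain ⟨⟨⟨T, ⟨⟨⟩⟩, a⟩, ⟨T₂, ⟨⟨⟩⟩, b⟩, e⟩, he⟩ := z
    obtain rfl : T₂ = T := hz
    let A : Arr x T₂ := ⟨a, b ≫ g, e.hom, fp_isVert (F := x) (G := w) ⟨_, he⟩⟩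
    let r := arrHom hω A
    have hr : r ≫ ω.tgt = b ≫ g := arrHom_tgt hω A
    let q : T₂ ⟶ tgtPull ω g :=
      Over.homMk (pullback.lift b.left r.left (congrArg Over.Hom.left hr).symm)
        (show pullback.lift _ _ _ ≫ pullback.snd _ _ ≫ R.hom = T₂.hom by
          rw [pullback.lift_snd_assoc]; exact Over.w r)
    have hq₁ : q ≫ tgtPullPt ω g = b := Over.OverMorphism.ext (pullback.lift_fst _ _ _)
    have hq₂ : q ≫ tgtPullArr ω g = r := Over.OverMorphism.ext (pullback.lift_snd _ _ _)
    refine ⟨q, ?_, ?_⟩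
    · have hA : A = B.pull hX q := by
        rw [hB, Arr.pull_pull, hq₂]
        exact (pull_arrHom hω A).symm
      obtain ⟨ψ, hψ⟩ : ∃ ψ : A.toFp hX ⟶ B.toFp hX, (FibCat.fp x x).p.map ψ = q := by
        rw [hA]; exact ⟨Arr.pullHom hX q B, rfl⟩
      have h₁ : ψ.hom.fst.left = q := hψ
      have h₂ : ψ.hom.snd.left = q := by
        have := fp_map_snd ψ
        rw [show (FibCat.overCat U).p.map ψ.hom.fst = q from h₁] at this
        exact this.trans ((Category.id_comp _).trans (Category.comp_id q))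
      let m : (Over.mk b : Over W) ⟶ Over.mk (tgtPullPt ω g) := Over.homMk q hq₁
      refine ⟨fpHom (F := x) (G := w) ψ.hom.fst m ?_, hψ.trans (Category.comp_id q).symm⟩
      have hm : (AlgSt.overMap g).map m = ψ.hom.snd := Over.OverMorphism.ext h₂.symm
      show x.map ψ.hom.fst ≫ B.hom = A.hom ≫ x.map ((AlgSt.overMap g).map m)
      rw [hm]
      exact ψ.hom.w
    · rintro q' ⟨φ, hφ⟩
      have h₁ : φ.hom.fst.left = q' := hφ.trans (Category.comp_id q')
      have h₂ : φ.hom.snd.left = q' := by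
        have := fp_map_snd φ
        rw [show (FibCat.overCat U).p.map φ.hom.fst = q' from h₁] at this
        exact this.trans ((Category.id_comp _).trans (Category.comp_id q'))
      let ψ : A.toFp hX ⟶ B.toFp hX :=
        fpHom (F := x) (G := x) φ.hom.fst ((AlgSt.overMap g).map φ.hom.snd) φ.hom.w
      have hA := Arr.pull_eq hX q' ψ h₁
      rw [hB, Arr.pull_pull] at hA
      have e₂ : q' ≫ tgtPullArr ω g = r :=
        pull_inj hω (hA.symm.trans (pull_arrHom hω A).symm)
      have e₁ : q' ≫ tgtPullPt ω g = b := by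
        have := Over.w φ.hom.snd
        rw [h₂] at this
        exact this
      apply Over.OverMorphism.ext
      apply pullback.hom_ext
      · exact (congrArg Over.Hom.left (e₁.trans hq₁.symm))
      · exact (congrArg Over.Hom.left (e₂.trans hq₂.symm))
  · refine (nonempty_overIso_iff (isFibGrpd_overCat U) _ _).2 ⟨i.hom.hom.fst ≫ eqToHom ?_, ?_⟩
    · exact congrArg Over.mk (Category.id_comp _).symm
    · exact ((isVert_fp_iff i.hom).1 hi).comp (isVert_eqToHom _)
  · refine (nonempty_overIso_iff (isFibGrpd_overCat W) _ _).2 ⟨i.hom.hom.snd ≫ eqToHom ?_, ?_⟩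
    · exact congrArg Over.mk (Category.id_comp _).symm
    · exact (isVert_map (F := FibCat.fpSnd x w) hi).comp (isVert_eqToHom _)

end Groth.StkSlice
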