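import Groth.Agent.GitQuot.StkSlice.Chart
import Groth.Agent.GitQuot.StkSlice.Slices
import Groth.Agent.GitQuot.Slice.Main
import Groth.Agent.GitQuot.GrpdShear
import Groth.Agent.AlgSpBasic.FibreSpace
import Groth.Agent.AlgStBasic.RepDescend
import Groth.Agent.AlgStBasic.FppfBase
import Groth.Agent.AlgStBasic.Atlas
import Groth.Agent.SchemeMorphisms.Points
import Groth.Agent.CMMor.Criterion
import Groth.Agent.Calg4.RegularAscent

/-!
# Flat, locally quasi-finite scheme covers of algebraic stacks with quasi-finite diagonal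
-/

set_option autoImplicit false
set_option backward.isDefEq.respectTransparency false
set_option backward.isDefEq.respectTransparency.types false

universe u

open CategoryTheory CategoryTheory.Limits AlgebraicGeometry
open Groth.StkBase Groth.AlgStBasic Groth.AlgSpBasic

noncomputable section

namespace Groth.StkSlice

theorem isCMAt_of_smooth {X Y : Scheme.{u}} (f : X ⟶ Y) [Smooth f] (x : X) : Grpd.IsCMAt f x := by
  have := Groth.CMMor.isRegularLocalRing_stalk_fiber f (f x) (f.asFiber x)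
  have h : MoreMor.IsCMAt f x :=
    ⟨Flat.stalkMap f x, Groth.Calg4.isCohenMacaulayLocalRing_of_isRegularLocalRing _⟩
  exact (Groth.Flatmor4.isCMAt_iff _ x).1 h

theorem surjective_of_finiteTypePoints {Y U : Scheme.{u}} (h : Y ⟶ U) (ho : IsOpenMap h)
    (H : ∀ u : U, LocallyOfFiniteType (U.fromSpecResidueField u) → u ∈ Set.range h) :
    Function.Surjective h := by
  intro u
  by_contra hu
  obtain ⟨V, hV, huV, -⟩ := exists_isAffineOpen_mem_and_subset (X := U) (x := u) (U := ⊤) trivial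
  have : CompactSpace ↥V := isCompact_iff_compactSpace.1 hV.isCompact
  let Z : Set ↥V := {v | (v : U) ∉ Set.range h}
  have hZ : IsClosed Z := (ho.isOpen_range.preimage continuous_subtype_val).isClosed_compl
  obtain ⟨v, hv, hvc⟩ := hZ.exists_closed_singleton ⟨⟨u, huV⟩, fun ⟨y, hy⟩ => hu ⟨y, hy⟩⟩
  exact hv (H v (Groth.SchemeMorphisms.locallyOfFiniteType_fromSpecResidueField_of_isClosed
    v.1 V v.2 hvc))

section Groupoid

variable {S : Scheme.{u}} {G : Grpd.GroupoidScheme S} [LocallyOfFinitePresentation G.s]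
  [LocallyOfFinitePresentation G.t]

/-- A disjoint union of slices meets every orbit. -/
theorem exists_slices (hs : ∀ r, Grpd.IsCMAt G.s r) (ht : ∀ r, Grpd.IsCMAt G.t r)
    [LocallyOfFiniteType G.stabilizerToU] [LocallyQuasiFinite G.stabilizerToU] :
    ∃ (W : Scheme.{u}) (g : W ⟶ G.U), Surjective (GrpdSlice.srcMap G g) ∧
      Flat (GrpdSlice.srcMap G g) ∧ LocallyOfFinitePresentation (GrpdSlice.srcMap G g) ∧
      LocallyQuasiFinite (GrpdSlice.srcMap G g) := by
  have key : ∀ v : {u : G.U // LocallyOfFiniteType (G.U.fromSpecResidueField u)},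
      ∃ (U' : Scheme.{u}) (g : U' ⟶ G.U) (p : ↑(pullback g G.t)),
        GrpdSlice.srcMap G g p = v.1 ∧ Flat (GrpdSlice.srcMap G g) ∧
          LocallyOfFinitePresentation (GrpdSlice.srcMap G g) ∧
          LocallyQuasiFinite (GrpdSlice.srcMap G g) := by
    rintro ⟨u, hu⟩
    obtain ⟨U', -, g, u', p, -, -, -, -, hpe, hall, hlfp, -, hqf⟩ :=
      GrpdSlice.exists_nice_slice G u hs ht
    have h0 : topologicalKrullDim ↥(G.stabilizerToU.fiber u) = 0 := by
      have : Nonempty ↥(G.stabilizerToU.fiber u) :=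
        ⟨(G.stabilizerToU.fiberHomeo u).symm ⟨G.eStab u, by
          show G.stabilizerToU (G.eStab u) = u
          rw [← Scheme.Hom.comp_apply,
            show G.eStab ≫ G.stabilizerToU = 𝟙 _ from pullback.lift_snd _ _ _]
          rfl⟩⟩
      exact Groth.AlgSpBasic.topologicalKrullDim_eq_zero_of_discrete
    refine ⟨U', g, p, ?_, GrpdSlice.flat_of_forall_isCMAt _ fun q =>
      (Groth.Flatmor4.isCMAt_iff _ q).1 (hall q), hlfp, hqf h0⟩
    show (pullback.snd g G.t ≫ G.s) p = u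
    rw [Scheme.Hom.comp_apply, hpe, ← Scheme.Hom.comp_apply, G.e_s]
    rfl
  choose U' g' p' hp' hf hl hq using key
  let g : (∐ U') ⟶ G.U := Sigma.desc g'
  let 𝒰 := Scheme.Pullback.openCoverOfLeft (sigmaOpenCover U') g G.t
  have hc : ∀ v, ∃ e : pullback ((sigmaOpenCover U').f v ≫ g) G.t ≅ pullback (g' v) G.t,
      𝒰.f v ≫ GrpdSlice.srcMap G g = e.hom ≫ GrpdSlice.srcMap G (g' v) := fun v => by
    have e : (sigmaOpenCover U').f v ≫ g = g' v := Sigma.ι_desc _ _
    refine ⟨pullback.congrHom e rfl, ?_⟩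
    simp [𝒰, GrpdSlice.srcMap, pullback.congrHom]
  have hflat : Flat (GrpdSlice.srcMap G g) := by
    rw [IsZariskiLocalAtSource.iff_of_openCover (P := @Flat) 𝒰]
    intro v
    obtain ⟨e, he⟩ := hc v
    have := hf v
    exact he ▸ inferInstanceAs (Flat (e.hom ≫ GrpdSlice.srcMap G (g' v)))
  have hlfp : LocallyOfFinitePresentation (GrpdSlice.srcMap G g) := by
    rw [IsZariskiLocalAtSource.iff_of_openCover (P := @LocallyOfFinitePresentation) 𝒰]
    intro v
    obtain ⟨e, he⟩ := hc v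
    have := hl v
    exact he ▸ inferInstanceAs (LocallyOfFinitePresentation (e.hom ≫ GrpdSlice.srcMap G (g' v)))
  refine ⟨∐ U', g, ⟨surjective_of_finiteTypePoints _ (GrpdSlice.srcMap G g).isOpenMap fun u hu => ?_⟩,
    hflat, hlfp, ?_⟩
  · let v : (sigmaOpenCover U').I₀ := ⟨u, hu⟩
    obtain ⟨e, he⟩ := hc v
    refine ⟨𝒰.f v (e.inv (p' v)), ?_⟩
    exact (congrArg (fun k => k (e.inv (p' v))) he).trans
      ((congrArg (fun k => (GrpdSlice.srcMap G (g' v)) (k (p' v))) e.inv_hom_id).trans (hp' ⟨u, hu⟩))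
  · rw [IsZariskiLocalAtSource.iff_of_openCover (P := @LocallyQuasiFinite) 𝒰]
    intro v
    obtain ⟨e, he⟩ := hc v
    have := hq v
    exact he ▸ inferInstanceAs (LocallyQuasiFinite (e.hom ≫ GrpdSlice.srcMap G (g' v)))

end Groupoid

/-- A flat, locally quasi-finite, locally finitely presented surjective scheme cover. -/
theorem exists_cover {S : Scheme.{u}} {𝒳 : AlgSt.Cat S}
    (h𝒳 : AlgSt.IsAlgStack Scheme.fppfPrecoverage 𝒳)
    (hΔ : AlgSt.RepByAlgSpWith AlgSp.IsSeparatedMor (FibCat.diag (FibCat.toSelf 𝒳)))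
    (hqf : AlgSt.IsQuasiDMOver 𝒳) :
    ∃ (W : Over S) (w : FibCat.overCat W ⥤ᵇ 𝒳),
      AlgSt.RepByAlgSpWith
        (AlgSp.LocP (@Flat ⊓ @LocallyOfFinitePresentation ⊓ @LocallyQuasiFinite) ⊓
          AlgSp.IsSurjectiveMor) w := by
  obtain ⟨U, x, hx, hxs⟩ := h𝒳.atlas
  have hX := h𝒳.isStack.1
  obtain ⟨R, ω, c, hω, hc₁, hc₂, hsm, hcq, hct⟩ := exists_chart_groupoid x hX hΔ hqf hx
  let G := groupoid hω
  have : Smooth G.s := hsm
  have hts : G.t = G.i ≫ G.s := G.i_s.symm
  have : Smooth G.t := by rw [hts]; infer_instance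
  have hj : G.j = c.left ≫ (pullbackSymmetry U.hom U.hom).hom := by
    apply pullback.hom_ext
    · refine (pullback.lift_fst _ _ _).trans ?_
      exact (congrArg Over.Hom.left hc₂).symm.trans
        ((congrArg (c.left ≫ ·) (pullbackSymmetry_hom_comp_fst U.hom U.hom).symm).trans
          (Category.assoc _ _ _).symm)
    · refine (pullback.lift_snd _ _ _).trans ?_
      exact (congrArg Over.Hom.left hc₁).symm.trans
        ((congrArg (c.left ≫ ·) (pullbackSymmetry_hom_comp_snd U.hom U.hom).symm).trans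
          (Category.assoc _ _ _).symm)
  have : LocallyQuasiFinite G.j := hj ▸
    inferInstanceAs (LocallyQuasiFinite (c.left ≫ (pullbackSymmetry U.hom U.hom).hom))
  have : LocallyOfFiniteType G.j := hj ▸
    inferInstanceAs (LocallyOfFiniteType (c.left ≫ (pullbackSymmetry U.hom U.hom).hom))
  have : LocallyOfFiniteType G.stabilizerToU :=
    inferInstanceAs (LocallyOfFiniteType (pullback.snd G.j G.diag))
  have : LocallyQuasiFinite G.stabilizerToU :=
    inferInstanceAs (LocallyQuasiFinite (pullback.snd G.j G.diag))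
  obtain ⟨W₀, g₀, hsur, hfl, hlp, hlq⟩ := exists_slices (G := G)
    (fun r => isCMAt_of_smooth G.s r) (fun r => isCMAt_of_smooth G.t r)
  let W : Over S := Over.mk (g₀ ≫ U.hom)
  let g : W ⟶ U := Over.homMk g₀ rfl
  let w := BasedFunctor.comp (AlgSt.overMap g) x
  obtain ⟨L, hL, ⟨α₁⟩, ⟨α₂⟩⟩ := exists_chart_fp g hω
  let h : tgtPull ω g ⟶ U := tgtPullArr ω g ≫ ω.src
  have hh : h.left = GrpdSlice.srcMap G g₀ := rfl
  let x' := BasedFunctor.comp (AlgSt.toOverCat U) x
  obtain ⟨P, hP, -, ⟨β⟩⟩ := isEquivOver_symm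
    (isEquivOver_fpPre (isEquivOver_toOverCat U) (isEquivOver_id (FibCat.overCat W)) x w)
  let e := BasedFunctor.comp (BasedFunctor.comp (AlgSt.toOverCat (tgtPull ω g)) L) P
  have he : FibCat.IsEquivOver e :=
    isEquivOver_comp (isEquivOver_comp (isEquivOver_toOverCat _) hL) hP
  have hef : BasedFunctor.comp e (FibCat.fpFst x' w) ≅ AlgSt.ofSpMap ((AlgSp.yon S).map h) :=
    whiskerRightIso
      ((whiskerRightIso (whiskerLeftIso (BasedFunctor.comp (AlgSt.toOverCat (tgtPull ω g)) L) β)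
        (FibCat.fpFst x w)).trans (whiskerLeftIso (AlgSt.toOverCat (tgtPull ω g)) α₁))
      (AlgSt.ofOverCat U)
  have hW : AlgSt.IsAlgStack Scheme.fppfPrecoverage (FibCat.overCat W) :=
    isAlgStack_of_repByAlgSp (repByAlgSp_overCat W)
  have cov : ∀ {Q : MorphismProperty (AlgSp.Sp S)}, StableBaseChange Q →
      AlgSp.IsLocalOnBase AlgSp.IsFppfCover Q → Q ((AlgSp.yon S).map h) →
      AlgSt.RepByAlgSpWith Q w := fun {Q} hb hl hq => by
    have hxf : AlgSt.RepByAlgSpWith (AlgSp.LocP @Flat) x := repWith_mono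
      (fun _ _ _ _ _ hp => Groth.AlgSpBasic.locP_mono (P := @Smooth) (Q := @Flat)
        (fun _ _ k (_ : Smooth k) => inferInstance) hp) hx
    have hxl : AlgSt.RepByAlgSpWith (AlgSp.LocP @LocallyOfFinitePresentation) x := repWith_mono
      (fun _ _ _ _ _ hp => Groth.AlgSpBasic.locP_mono (P := @Smooth)
        (Q := @LocallyOfFinitePresentation) (fun _ _ k (_ : Smooth k) => inferInstance) hp) hx
    exact (repWith_iff_exists_map_of_cover' hb hl hW h𝒳 w
      (W := ⟨(AlgSp.yon S).obj U, AlgSp.IsAlgSpace.yon_obj U⟩) (w := x')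
      ((repWith_precomp_equiv (isEquivOver_toOverCat U) _).2 hxf)
      ((repWith_precomp_equiv (isEquivOver_toOverCat U) _).2 hxl)
      ((repWith_precomp_equiv (isEquivOver_toOverCat U) _).2 hxs)).2
      ⟨⟨(AlgSp.yon S).obj (tgtPull ω g), AlgSp.IsAlgSpace.yon_obj _⟩,
        ObjectProperty.homMk ((AlgSp.yon S).map h), e, he, ⟨hef⟩, hq⟩
  have locP_yon : ∀ (Q : MorphismProperty Scheme.{u}) [EtaleLocal Q], Q h.left →
      AlgSp.LocP Q ((AlgSp.yon S).map h) := fun Q _ hq =>
    Groth.AlgSpBasic.locP_of_repWith ((AlgSp.repWith_yon_map_iff Q h).2 hq)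
  have h₁ := cov stableBaseChange_locP (isLocalOnBase_fppf_locP @Flat) (locP_yon _ (hh ▸ hfl))
  have h₂ := cov stableBaseChange_locP (isLocalOnBase_fppf_locP @LocallyOfFinitePresentation)
    (locP_yon _ (hh ▸ hlp))
  have h₃ := cov stableBaseChange_locP
    (isLocalOnBase_fppf_locP (@LocallyQuasiFinite ⊓ @LocallyOfFiniteType))
    (locP_yon _ ⟨hh ▸ hlq, hh ▸ (inferInstance : LocallyOfFiniteType (GrpdSlice.srcMap G g₀))⟩)
  have h₄ : AlgSt.RepByAlgSpWith AlgSp.IsSurjectiveMor w := by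
    refine repWith_surjective_of_range hX (repWith_repByAlgSp1 h₁) fun z => ?_
    obtain ⟨u, rfl⟩ := surjective_ofChart hX hxs z
    obtain ⟨p, hp⟩ := hsur.surj u
    refine ⟨(tgtPullPt ω g).left p, ?_⟩
    have e₁ : BasedFunctor.comp (AlgSt.overMap h) x ≅
        BasedFunctor.comp (AlgSt.overMap (tgtPullPt ω g)) w :=
      (whiskerRightIso α₁ x).symm.trans ((whiskerLeftIso L (FibCat.fpIso x w)).trans
        (whiskerRightIso α₂ w))
    rw [← ofChart_overMap, ← ofChart_eq_of_iso e₁, ofChart_overMap]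
    exact congrArg _ hp
  refine ⟨W, w, repWith_mono (fun X Y f _ _ hp => ⟨?_, hp.2⟩) (AlgStBasic.repWith_inf stableBaseChange_surjective
    (AlgStBasic.repWith_inf stableBaseChange_locP (AlgStBasic.repWith_inf stableBaseChange_locP h₁ h₂) h₃) h₄)⟩
  intro U V a b k ha hb comm
  exact ⟨⟨hp.1.1.1 a b k ha hb comm, hp.1.1.2 a b k ha hb comm⟩, (hp.1.2 a b k ha hb comm).1⟩

end Groth.StkSlice
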