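import Groth.Agent.StkBase.FibProd
import Groth.Agent.StkBase.Yoneda
import Groth.Prelude.Def_AlgSt2

/-!
# Arrows between pullbacks of a chart: the objects of the fibre product of a chart with itself
-/

set_option autoImplicit false
set_option backward.isDefEq.respectTransparency false
set_option backward.isDefEq.respectTransparency.types false

universe u

open CategoryTheory CategoryTheory.Limits AlgebraicGeometry
open Groth.StkBase

noncomputable section

namespace Groth.StkSlice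

variable {S : Scheme.{u}} {𝒳 : AlgSt.Cat S} {U : Over S} (x : FibCat.overCat U ⥤ᵇ 𝒳)

/-- A vertical arrow between two pullbacks of the chart `x`. -/
structure Arr (T : Over S) where
  /-- source -/
  src : T ⟶ U
  /-- target -/
  tgt : T ⟶ U
  /-- arrow -/
  hom : x.obj (Over.mk src) ⟶ x.obj (Over.mk tgt)
  vert : IsVert 𝒳.p hom

namespace Arr

variable {x} {T T' T'' : Over S}

theorem ext' {A B : Arr x T} (hs : A.src = B.src) (ht : A.tgt = B.tgt)
    (h : A.hom ≫ eqToHom (congrArg (fun c => x.obj (Over.mk c)) ht)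
      = eqToHom (congrArg (fun c => x.obj (Over.mk c)) hs) ≫ B.hom) : A = B := by
  obtain ⟨a, b, f, hf⟩ := A
  obtain ⟨a', b', f', hf'⟩ := B
  dsimp at hs ht
  subst hs ht
  obtain rfl : f = f' := by simpa using h
  rfl

/-- The object of `x ×_𝒳 x` of an arrow. -/
def toFp (hX : FibCat.IsFibGrpd 𝒳.p) (A : Arr x T) : (FibCat.fp x x).obj :=
  haveI := A.vert.isIso hX
  fpMk (F := x) (G := x) (Over.mk A.src) (Over.mk A.tgt) (asIso A.hom) A.vert

@[simp] theorem toFp_iso_hom (hX : FibCat.IsFibGrpd 𝒳.p) (A : Arr x T) :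
    (A.toFp hX).obj.iso.hom = A.hom := rfl

theorem exists_toFp (hX : FibCat.IsFibGrpd 𝒳.p) (q : (FibCat.fp x x).obj) :
    ∃ A : Arr x ((FibCat.fp x x).p.obj q), A.toFp hX = q := by
  obtain ⟨⟨⟨T, ⟨⟨⟩⟩, a⟩, ⟨T₂, ⟨⟨⟩⟩, b⟩, e⟩, he⟩ := q
  obtain rfl : T₂ = T := fp_p_snd (F := x) (G := x) ⟨_, he⟩
  refine ⟨⟨a, b, e.hom, fp_isVert (F := x) (G := x) ⟨_, he⟩⟩, ?_⟩
  apply ObjectProperty.FullSubcategory.ext
  have : ∀ (h : IsIso e.hom), @asIso _ _ _ _ e.hom h = e := fun h => Iso.ext rfl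
  show CategoricalPullback.mk (F := x.toFunctor) (G := x.toFunctor) _ _ (@asIso _ _ _ _ e.hom _) = _
  rw [this]

/-- The map of the chart over `r`. -/
abbrev xMap (x : FibCat.overCat U ⥤ᵇ 𝒳) (r : T' ⟶ T) (a : T ⟶ U) :
    x.obj (Over.mk (r ≫ a)) ⟶ x.obj (Over.mk a) :=
  x.map (Over.homMk r rfl : Over.mk (r ≫ a) ⟶ Over.mk a)

theorem xMap_p (r : T' ⟶ T) (a : T ⟶ U) : 𝒳.p.map (xMap x r a) =
    eqToHom (x.w_obj (Over.mk (r ≫ a))) ≫ r ≫ eqToHom (x.w_obj (Over.mk a)).symm :=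
  map_map x _

theorem pull_aux (A : Arr x T) (r : T' ⟶ T) :
    eqToHom ((x.w_obj (Over.mk (r ≫ A.src))).trans (x.w_obj (Over.mk (r ≫ A.tgt))).symm) ≫
      𝒳.p.map (xMap x r A.tgt) = 𝒳.p.map (xMap x r A.src ≫ A.hom) := by
  rw [Functor.map_comp, A.vert.map_eq, xMap_p, xMap_p]
  simp

variable (hX : FibCat.IsFibGrpd 𝒳.p)

/-- Pullback of arrows. -/
def pull (r : T' ⟶ T) (A : Arr x T) : Arr x T' where
  src := r ≫ A.src
  tgt := r ≫ A.tgt
  hom := factor hX (xMap x r A.tgt) (xMap x r A.src ≫ A.hom) _ (pull_aux A r)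
  vert := ⟨_, factor_map hX _ _ _ (pull_aux A r)⟩

@[simp] theorem pull_src (r : T' ⟶ T) (A : Arr x T) : (A.pull hX r).src = r ≫ A.src := rfl

@[simp] theorem pull_tgt (r : T' ⟶ T) (A : Arr x T) : (A.pull hX r).tgt = r ≫ A.tgt := rfl

theorem pull_w (r : T' ⟶ T) (A : Arr x T) :
    (A.pull hX r).hom ≫ xMap x r A.tgt = xMap x r A.src ≫ A.hom := factor_comp hX _ _ _ (pull_aux A r)

/-- The morphism from the pullback. -/
def pullHom (r : T' ⟶ T) (A : Arr x T) : (A.pull hX r).toFp hX ⟶ A.toFp hX :=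
  fpHom (F := x) (G := x) (Over.homMk r rfl) (Over.homMk r rfl) (pull_w hX r A).symm

theorem toFp_inj {A B : Arr x T} (φ : A.toFp hX ⟶ B.toFp hX)
    (hφ : IsVert (FibCat.fp x x).p φ) : A = B := by
  obtain ⟨h₁, e₁⟩ := (isVert_fp_iff φ).1 hφ
  obtain ⟨h₂, e₂⟩ := isVert_map (F := FibCat.fpSnd x x) hφ
  have a₁ : φ.hom.fst.left = 𝟙 T := e₁
  have a₂ : φ.hom.snd.left = 𝟙 T := e₂
  have hs : A.src = B.src := by
    have := Over.w φ.hom.fst
    rw [a₁] at this
    exact this.symm.trans (Category.id_comp _)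
  have ht : A.tgt = B.tgt := by
    have := Over.w φ.hom.snd
    rw [a₂] at this
    exact this.symm.trans (Category.id_comp _)
  have g₁ : φ.hom.fst = eqToHom (congrArg Over.mk hs) :=
    Over.OverMorphism.ext (a₁.trans (by rw [Over.eqToHom_left]; rfl))
  have g₂ : φ.hom.snd = eqToHom (congrArg Over.mk ht) :=
    Over.OverMorphism.ext (a₂.trans (by rw [Over.eqToHom_left]; rfl))
  refine ext' hs ht ?_
  have w := φ.hom.w
  rw [g₁, g₂, eqToHom_map, eqToHom_map] at w
  exact w.symm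

theorem pull_eq (r : T' ⟶ T) {A : Arr x T} {B : Arr x T'} (φ : B.toFp hX ⟶ A.toFp hX)
    (h : (FibCat.fp x x).p.map φ = r) : B = A.pull hX r := by
  obtain ⟨i, hi, -⟩ := exists_vert_iso_of_lifts
    (isFibGrpd_fp (isFibGrpd_overCat U) (isFibGrpd_overCat U) hX) φ (pullHom hX r A) rfl
    (h.trans (Category.id_comp _).symm)
  exact toFp_inj hX i.hom hi

theorem pull_pull (r : T' ⟶ T) (r' : T'' ⟶ T') (A : Arr x T) :
    (A.pull hX r).pull hX r' = A.pull hX (r' ≫ r) :=
  pull_eq hX _ (pullHom hX r' _ ≫ pullHom hX r A) rfl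

theorem pull_id (A : Arr x T) : A.pull hX (𝟙 T) = A :=
  (pull_eq hX _ (𝟙 _) ((FibCat.fp x x).p.map_id _)).symm

/-- Identity arrows. -/
def idArr (a : T ⟶ U) : Arr x T := ⟨a, a, 𝟙 _, isVert_id _⟩

/-- `A ∘ B`. -/
def comp (A B : Arr x T) (h : B.tgt = A.src) : Arr x T where
  src := B.src
  tgt := A.tgt
  hom := B.hom ≫ eqToHom (congrArg (fun c => x.obj (Over.mk c)) h) ≫ A.hom
  vert := B.vert.comp ((isVert_eqToHom _).comp A.vert)

/-- Inverse arrows. -/
def invArr (A : Arr x T) : Arr x T where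
  src := A.tgt
  tgt := A.src
  hom := haveI := A.vert.isIso hX; inv A.hom
  vert := haveI := A.vert.isIso hX; IsVert.inv (φ := asIso A.hom) A.vert

theorem comp_congr {A A' B B' : Arr x T} (hA : A = A') (hB : B = B') (h : B.tgt = A.src)
    (h' : B'.tgt = A'.src) : A.comp B h = A'.comp B' h' := by
  subst hA hB; rfl

theorem comp_assoc (A B C : Arr x T) (h₁ : B.tgt = A.src) (h₂ : C.tgt = B.src) :
    (A.comp B h₁).comp C h₂ = A.comp (B.comp C h₂) h₁ :=
  ext' rfl rfl (by simp [comp])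

theorem comp_idArr (A : Arr x T) {a : T ⟶ U} (h : a = A.src) : A.comp (idArr a) h = A := by
  subst h
  exact ext' rfl rfl (by simp [comp, idArr])

theorem idArr_comp (A : Arr x T) {a : T ⟶ U} (h : A.tgt = a) : (idArr a).comp A h = A := by
  subst h
  exact ext' rfl rfl (by simp [comp, idArr])

theorem comp_invArr (A : Arr x T) : A.comp (A.invArr hX) rfl = idArr A.tgt := by
  have := A.vert.isIso hX
  exact ext' rfl rfl (by simp [comp, idArr, invArr])

theorem invArr_comp (A : Arr x T) : (A.invArr hX).comp A rfl = idArr A.src := by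
  have := A.vert.isIso hX
  exact ext' rfl rfl (by simp [comp, idArr, invArr])

theorem eqToHom_xMap (r : T' ⟶ T) {a b : T ⟶ U} (h : a = b) :
    eqToHom (congrArg (fun c => x.obj (Over.mk c)) (congrArg (r ≫ ·) h)) ≫ xMap x r b
      = xMap x r a ≫ eqToHom (congrArg (fun c => x.obj (Over.mk c)) h) := by
  subst h; simp

theorem pull_idArr (r : T' ⟶ T) (a : T ⟶ U) : (idArr (x := x) a).pull hX r = idArr (r ≫ a) :=
  (pull_eq hX r (fpHom (F := x) (G := x) (Over.homMk r rfl) (Over.homMk r rfl)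
    (by exact (Category.comp_id _).trans (Category.id_comp _).symm)) rfl).symm

theorem pull_comp (r : T' ⟶ T) (A B : Arr x T) (h : B.tgt = A.src) :
    (A.comp B h).pull hX r = (A.pull hX r).comp (B.pull hX r) (congrArg (r ≫ ·) h) := by
  refine (pull_eq hX r (fpHom (F := x) (G := x) (Over.homMk r rfl) (Over.homMk r rfl) ?_) rfl).symm
  show xMap x r B.src ≫ B.hom ≫ _ ≫ A.hom = ((B.pull hX r).hom ≫ _ ≫ (A.pull hX r).hom) ≫ xMap x r A.tgt
  rw [Category.assoc, Category.assoc, pull_w, ← Category.assoc (eqToHom _) (xMap x r A.src),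
    eqToHom_xMap r h, ← Category.assoc, ← pull_w hX r B]
  simp

end Arr

end Groth.StkSlice
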