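import Groth.Agent.GitQuot.StkSlice.Arr
import Groth.Prelude.Def_Grpd

/-!
# The groupoid of a universal arrow of a chart
-/

set_option autoImplicit false
set_option backward.isDefEq.respectTransparency false
set_option backward.isDefEq.respectTransparency.types false

universe u

open CategoryTheory CategoryTheory.Limits AlgebraicGeometry
open Groth.StkBase

noncomputable section

namespace Groth.StkSlice

variable {S : Scheme.{u}} {𝒳 : AlgSt.Cat S} (hX : FibCat.IsFibGrpd 𝒳.p) {U : Over S}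
  {x : FibCat.overCat U ⥤ᵇ 𝒳} {R : Over S}

/-- An arrow of which every arrow is a unique pullback. -/
def Univ (ω : Arr x R) : Prop :=
  ∀ (T : Over S), Function.Bijective fun r : T ⟶ R => ω.pull hX r

variable {hX} {ω : Arr x R} (hω : Univ hX ω)

/-- The classifying map of an arrow. -/
def arrHom {T : Over S} (A : Arr x T) : T ⟶ R := ((hω T).2 A).choose

theorem pull_arrHom {T : Over S} (A : Arr x T) : ω.pull hX (arrHom hω A) = A :=
  ((hω T).2 A).choose_spec

include hω in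
theorem pull_inj {T : Over S} {r r' : T ⟶ R} (h : ω.pull hX r = ω.pull hX r') : r = r' :=
  (hω T).1 h

theorem arrHom_src {T : Over S} (A : Arr x T) : arrHom hω A ≫ ω.src = A.src :=
  congrArg Arr.src (pull_arrHom hω A)

theorem arrHom_tgt {T : Over S} (A : Arr x T) : arrHom hω A ≫ ω.tgt = A.tgt :=
  congrArg Arr.tgt (pull_arrHom hω A)

/-- Composition of points. -/
def mulR {T : Over S} (α β : T ⟶ R) (h : β ≫ ω.tgt = α ≫ ω.src) : T ⟶ R :=
  arrHom hω ((ω.pull hX α).comp (ω.pull hX β) h)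

theorem pull_mulR {T : Over S} (α β : T ⟶ R) (h : β ≫ ω.tgt = α ≫ ω.src) :
    ω.pull hX (mulR hω α β h) = (ω.pull hX α).comp (ω.pull hX β) h := pull_arrHom hω _

theorem comp_mulR {T T' : Over S} (q : T' ⟶ T) (α β : T ⟶ R) (h : β ≫ ω.tgt = α ≫ ω.src) :
    q ≫ mulR hω α β h = mulR hω (q ≫ α) (q ≫ β) (by simp [h]) := by
  apply pull_inj hω
  rw [← Arr.pull_pull, pull_mulR, pull_mulR, Arr.pull_comp]
  exact Arr.comp_congr (Arr.pull_pull ..) (Arr.pull_pull ..) _ _

theorem over_snd_w {T : Scheme.{u}} {α β : T ⟶ R.left}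
    (h : α ≫ ω.src.left = β ≫ ω.tgt.left) : β ≫ R.hom = α ≫ R.hom :=
  calc β ≫ R.hom = (β ≫ ω.tgt.left) ≫ U.hom := by rw [Category.assoc, Over.w ω.tgt]
    _ = (α ≫ ω.src.left) ≫ U.hom := by rw [h]
    _ = α ≫ R.hom := by rw [Category.assoc, Over.w ω.src]

/-- The composable pairs. -/
def pairs (ω : Arr x R) : Over S := Over.mk (pullback.fst ω.src.left ω.tgt.left ≫ R.hom)

/-- The first arrow of a composable pair. -/
def pairFst (ω : Arr x R) : pairs ω ⟶ R := Over.homMk (pullback.fst ω.src.left ω.tgt.left) rfl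

/-- The second arrow of a composable pair. -/
def pairSnd (ω : Arr x R) : pairs ω ⟶ R :=
  Over.homMk (pullback.snd ω.src.left ω.tgt.left) (over_snd_w pullback.condition)

theorem pair_cond (ω : Arr x R) : pairSnd ω ≫ ω.tgt = pairFst ω ≫ ω.src :=
  Over.OverMorphism.ext pullback.condition.symm

/-- The composition morphism. -/
def mulHom : pairs ω ⟶ R := mulR hω (pairFst ω) (pairSnd ω) (pair_cond ω)

theorem lift_mulHom {T : Over S} (α β : T ⟶ R) (h : β ≫ ω.tgt = α ≫ ω.src) :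
    pullback.lift α.left β.left (congrArg Over.Hom.left h).symm ≫ (mulHom hω).left
      = (mulR hω α β h).left := by
  let q : T ⟶ pairs ω :=
    Over.homMk (pullback.lift α.left β.left (congrArg Over.Hom.left h).symm) (by
      show _ ≫ pullback.fst _ _ ≫ R.hom = T.hom
      rw [pullback.lift_fst_assoc, Over.w α])
  have h₁ : q ≫ pairFst ω = α := Over.OverMorphism.ext (pullback.lift_fst _ _ _)
  have h₂ : q ≫ pairSnd ω = β := Over.OverMorphism.ext (pullback.lift_snd _ _ _)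
  have := comp_mulR hω q (pairFst ω) (pairSnd ω) (pair_cond ω)
  simp only [h₁, h₂] at this
  exact congrArg Over.Hom.left this

/-- A point of arrows, over `S`. -/
def overFst {T : Scheme.{u}} (α : T ⟶ R.left) : Over.mk (α ≫ R.hom) ⟶ R := Over.homMk α rfl

/-- The partner of a point of arrows, over `S`. -/
def overSnd {T : Scheme.{u}} {α β : T ⟶ R.left} (h : α ≫ ω.src.left = β ≫ ω.tgt.left) :
    Over.mk (α ≫ R.hom) ⟶ R := Over.homMk β (over_snd_w h)

theorem overSnd_tgt {T : Scheme.{u}} {α β : T ⟶ R.left}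
    (h : α ≫ ω.src.left = β ≫ ω.tgt.left) : overSnd h ≫ ω.tgt = overFst α ≫ ω.src :=
  Over.OverMorphism.ext h.symm

theorem mulR_src {T : Over S} (α β : T ⟶ R) (h : β ≫ ω.tgt = α ≫ ω.src) :
    mulR hω α β h ≫ ω.src = β ≫ ω.src := arrHom_src hω _

theorem mulR_tgt {T : Over S} (α β : T ⟶ R) (h : β ≫ ω.tgt = α ≫ ω.src) :
    mulR hω α β h ≫ ω.tgt = α ≫ ω.tgt := arrHom_tgt hω _

theorem mulR_assoc {T : Over S} (α β γ : T ⟶ R) (h₁ : β ≫ ω.tgt = α ≫ ω.src)
    (h₂ : γ ≫ ω.tgt = β ≫ ω.src) :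
    mulR hω (mulR hω α β h₁) γ (h₂.trans (mulR_src hω α β h₁).symm) =
      mulR hω α (mulR hω β γ h₂) ((mulR_tgt hω β γ h₂).trans h₁) := by
  apply pull_inj hω
  refine (pull_mulR hω _ γ _).trans (Eq.trans ?_ (pull_mulR hω α _ _).symm)
  exact (Arr.comp_congr (pull_mulR hω α β h₁) rfl _ h₂).trans
    ((Arr.comp_assoc _ _ _ h₁ h₂).trans
      (Arr.comp_congr rfl (pull_mulR hω β γ h₂).symm _ _))

/-- The identity morphism. -/
def oneHom : U ⟶ R := arrHom hω (Arr.idArr (x := x) (𝟙 U))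

theorem pull_comp_oneHom {T : Over S} (a : T ⟶ U) :
    ω.pull hX (a ≫ oneHom hω) = Arr.idArr a := by
  rw [← Arr.pull_pull, show ω.pull hX (oneHom hω) = _ from pull_arrHom hω _, Arr.pull_idArr,
    Category.comp_id]

/-- The inversion morphism. -/
def invHom : R ⟶ R := arrHom hω (ω.invArr hX)

theorem pull_comp_invHom {T : Over S} (α : T ⟶ R) :
    ω.pull hX (α ≫ invHom hω) = (ω.invArr hX).pull hX α := by
  rw [← Arr.pull_pull, show ω.pull hX (invHom hω) = _ from pull_arrHom hω _]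

theorem mulR_inv {T : Over S} (α : T ⟶ R) (h : (α ≫ invHom hω) ≫ ω.tgt = α ≫ ω.src) :
    mulR hω α (α ≫ invHom hω) h = α ≫ ω.tgt ≫ oneHom hω := by
  apply pull_inj hω
  rw [pull_mulR, ← Category.assoc, pull_comp_oneHom]
  refine (Arr.comp_congr rfl (pull_comp_invHom hω α) _ rfl).trans ?_
  rw [← Arr.pull_comp hX α ω (ω.invArr hX) rfl, Arr.comp_invArr, Arr.pull_idArr]

theorem inv_mulR {T : Over S} (α : T ⟶ R) (h : α ≫ ω.tgt = (α ≫ invHom hω) ≫ ω.src) :
    mulR hω (α ≫ invHom hω) α h = α ≫ ω.src ≫ oneHom hω := by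
  apply pull_inj hω
  rw [pull_mulR, ← Category.assoc, pull_comp_oneHom]
  refine (Arr.comp_congr (pull_comp_invHom hω α) rfl _ rfl).trans ?_
  rw [← Arr.pull_comp hX α (ω.invArr hX) ω rfl, Arr.invArr_comp, Arr.pull_idArr]

theorem mulR_one {T : Over S} (α : T ⟶ R) (h : (α ≫ ω.src ≫ oneHom hω) ≫ ω.tgt = α ≫ ω.src) :
    mulR hω α (α ≫ ω.src ≫ oneHom hω) h = α := by
  apply pull_inj hω
  rw [pull_mulR]
  have e := pull_comp_oneHom hω (α ≫ ω.src)
  rw [Category.assoc] at e
  exact (Arr.comp_congr rfl e _ rfl).trans (Arr.comp_idArr _ rfl)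

theorem one_mulR {T : Over S} (α : T ⟶ R) (h : α ≫ ω.tgt = (α ≫ ω.tgt ≫ oneHom hω) ≫ ω.src) :
    mulR hω (α ≫ ω.tgt ≫ oneHom hω) α h = α := by
  apply pull_inj hω
  rw [pull_mulR]
  have e := pull_comp_oneHom hω (α ≫ ω.tgt)
  rw [Category.assoc] at e
  exact (Arr.comp_congr e rfl _ rfl).trans (Arr.idArr_comp _ rfl)

/-- The groupoid scheme of a universal arrow. -/
def groupoid : Grpd.GroupoidScheme S where
  U := U.left
  R := R.left
  pU := U.hom
  pR := R.hom
  s := ω.src.left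
  t := ω.tgt.left
  e := (oneHom hω).left
  i := (invHom hω).left
  c := (mulHom hω).left
  s_over := Over.w ω.src
  t_over := Over.w ω.tgt
  comp_s α β h :=
    (congrArg (· ≫ ω.src.left)
      (lift_mulHom hω (overFst α) (overSnd h) (overSnd_tgt h))).trans
      (congrArg Over.Hom.left (mulR_src hω _ _ (overSnd_tgt h)))
  comp_t α β h :=
    (congrArg (· ≫ ω.tgt.left)
      (lift_mulHom hω (overFst α) (overSnd h) (overSnd_tgt h))).trans
      (congrArg Over.Hom.left (mulR_tgt hω _ _ (overSnd_tgt h)))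
  assoc α β γ h₁ h₂ := by
    let γ' : Over.mk (α ≫ R.hom) ⟶ R := Over.homMk γ ((over_snd_w h₂).trans (over_snd_w h₁))
    have h₁' := overSnd_tgt h₁
    have h₂' : γ' ≫ ω.tgt = overSnd h₁ ≫ ω.src := Over.OverMorphism.ext h₂.symm
    have e₁ := lift_mulHom hω _ _ h₁'
    have e₂ := lift_mulHom hω _ _ h₂'
    have e₃ := congrArg Over.Hom.left (mulR_assoc hω _ _ _ h₁' h₂')
    have e₄ := (lift_mulHom hω _ _ (h₂'.trans (mulR_src hω _ _ h₁').symm)).trans
      (e₃.trans (lift_mulHom hω _ _ ((mulR_tgt hω _ _ h₂').trans h₁')).symm)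
    refine Eq.trans (congrArg (· ≫ (mulHom hω).left) (pullback.hom_ext ?_ ?_))
      (e₄.trans (congrArg (· ≫ (mulHom hω).left) (pullback.hom_ext ?_ ?_)))
    all_goals simp only [pullback.lift_fst, pullback.lift_snd]
    · exact e₁
    · rfl
    · rfl
    · exact e₂.symm
  e_s := congrArg Over.Hom.left (arrHom_src hω _)
  e_t := congrArg Over.Hom.left (arrHom_tgt hω _)
  comp_e α := by
    let α' : Over.mk (α ≫ R.hom) ⟶ R := Over.homMk α rfl
    have h : (α' ≫ ω.src ≫ oneHom hω) ≫ ω.tgt = α' ≫ ω.src := by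
      rw [Category.assoc, Category.assoc, show oneHom hω ≫ ω.tgt = 𝟙 U from arrHom_tgt hω _,
        Category.comp_id]
    have e := lift_mulHom hω α' _ h
    rw [mulR_one hω α' h] at e
    exact e
  e_comp α := by
    let α' : Over.mk (α ≫ R.hom) ⟶ R := Over.homMk α rfl
    have h : α' ≫ ω.tgt = (α' ≫ ω.tgt ≫ oneHom hω) ≫ ω.src := by
      rw [Category.assoc, Category.assoc, show oneHom hω ≫ ω.src = 𝟙 U from arrHom_src hω _,
        Category.comp_id]
    have e := lift_mulHom hω _ α' h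
    rw [one_mulR hω α' h] at e
    exact e
  i_s := congrArg Over.Hom.left (arrHom_src hω (ω.invArr hX))
  i_t := congrArg Over.Hom.left (arrHom_tgt hω (ω.invArr hX))
  comp_i α := by
    let α' : Over.mk (α ≫ R.hom) ⟶ R := Over.homMk α rfl
    have h : (α' ≫ invHom hω) ≫ ω.tgt = α' ≫ ω.src := by
      rw [Category.assoc, show invHom hω ≫ ω.tgt = ω.src from arrHom_tgt hω _]
    have e := lift_mulHom hω α' _ h
    rw [mulR_inv hω α' h] at e
    exact e
  i_comp α := by
    let α' : Over.mk (α ≫ R.hom) ⟶ R := Over.homMk α rfl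
    have h : α' ≫ ω.tgt = (α' ≫ invHom hω) ≫ ω.src := by
      rw [Category.assoc, show invHom hω ≫ ω.src = ω.tgt from arrHom_src hω _]
    have e := lift_mulHom hω _ α' h
    rw [inv_mulR hω α' h] at e
    exact e

end Groth.StkSlice
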