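import Groth.Agent.GitQuot.StkSlice.Groupoid
import Groth.Agent.StkBase.StackMisc
import Groth.Agent.StkBase.Psh

/-!
# Universal objects of categories equivalent to a slice category
-/

set_option autoImplicit false
set_option backward.isDefEq.respectTransparency false
set_option backward.isDefEq.respectTransparency.types false

universe v₂ u₂ u

open CategoryTheory CategoryTheory.Limits AlgebraicGeometry
open Groth.StkBase

noncomputable section

namespace Groth.StkSlice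

variable {S : Scheme.{u}}

section Equiv

variable {𝒵 : BasedCategory.{v₂, u₂} (Over S)} (hZ : FibCat.IsFibSetoid 𝒵.p)

include hZ in
theorem hom_eq_of_map_eq {a b : 𝒵.obj} {f g : a ⟶ b} (h : 𝒵.p.map f = 𝒵.p.map g) : f = g := by
  obtain ⟨i, hi, e⟩ := exists_vert_iso_of_lifts hZ.1 f g rfl (by simp [h])
  have := hi.isHomLift (R := 𝒵.p.obj a) rfl
  let A : 𝒵.p.Fiber (𝒵.p.obj a) := ⟨a, rfl⟩
  have h1 := (hZ.2 _ A A).allEq ⟨i.hom, inferInstanceAs (𝒵.p.IsHomLift (𝟙 _) i.hom)⟩ (𝟙 A)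
  have h2 : i.hom = 𝟙 a := congrArg Subtype.val h1
  rw [← e, h2, Category.id_comp]

include hZ in
/-- A functor from a slice category to a category fibred in setoids is an equivalence when every object maps
uniquely to the image of the universal object. -/
theorem isEquivOver_of_universal {P : Over S} (L : FibCat.overCat P ⥤ᵇ 𝒵) {z₀ : 𝒵.obj}
    (h₀ : 𝒵.p.obj z₀ = P) (i : L.obj (idObj P) ≅ z₀) (hi : IsVert 𝒵.p i.hom)
    (h : ∀ z : 𝒵.obj, ∃! q : 𝒵.p.obj z ⟶ P, ∃ φ : z ⟶ z₀, 𝒵.p.map φ = q ≫ eqToHom h₀.symm) :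
    FibCat.IsEquivOver L := by
  let t : ∀ g, L.obj g ⟶ z₀ := fun g => L.map (toId g) ≫ i.hom
  have ht : ∀ g, 𝒵.p.map (t g) = (eqToHom (L.w_obj g) ≫ g.hom) ≫ eqToHom h₀.symm := fun g => by
    have e : (FibCat.overCat P).p.map (toId g) = g.hom := rfl
    simp [t, map_map, hi.map_eq, e]
  have hf : L.toFunctor.Faithful := ⟨fun {a b} f g e => by
    apply Over.OverMorphism.ext
    have := congrArg 𝒵.p.map e
    rw [map_map, map_map, cancel_epi, cancel_mono] at this
    exact this⟩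
  refine isEquivOver_of_fullyFaithful L ⟨fun {a b} f => ?_⟩ hf fun z => ?_
  · let m : (FibCat.overCat P).p.obj a ⟶ (FibCat.overCat P).p.obj b :=
      eqToHom (L.w_obj a).symm ≫ 𝒵.p.map f ≫ eqToHom (L.w_obj b)
    have hm : 𝒵.p.map f ≫ eqToHom (L.w_obj b) ≫ b.hom = eqToHom (L.w_obj a) ≫ a.hom := by
      refine (h (L.obj a)).unique ⟨f ≫ t b, ?_⟩ ⟨t a, ht a⟩
      rw [Functor.map_comp, ht]
      simp
    refine ⟨Over.homMk m (show m ≫ b.hom = a.hom by simp [m, hm]), hom_eq_of_map_eq hZ ?_⟩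
    rw [map_map]
    show eqToHom _ ≫ m ≫ eqToHom _ = _
    simp [m]
  · obtain ⟨q, φ, hφ⟩ := (h z).exists
    obtain ⟨j, hj, -⟩ := exists_vert_iso_of_lifts hZ.1 (t (Over.mk q)) φ (L.w_obj _) (by
      rw [ht, hφ, Category.assoc]; rfl)
    exact ⟨Over.mk q, j, hj⟩

end Equiv

section OfEquiv

variable {𝒳 : AlgSt.Cat S} {U : Over S} {x : FibCat.overCat U ⥤ᵇ 𝒳} {R : Over S}

/-- An equivalence of a slice category with `x ×_𝒳 x` gives a universal arrow. -/
theorem exists_univ (hX : FibCat.IsFibGrpd 𝒳.p) (E : FibCat.overCat R ⥤ᵇ FibCat.fp x x)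
    (hE : FibCat.IsEquivOver E) :
    ∃ (ω : Arr x R) (i : ω.toFp hX ≅ E.obj (idObj R)),
      IsVert (FibCat.fp x x).p i.hom ∧ Univ hX ω := by
  obtain ⟨A, hA⟩ := Arr.exists_toFp hX (E.obj (idObj R))
  obtain ⟨ω, i, hi⟩ : ∃ (ω : Arr x R) (i : ω.toFp hX ≅ E.obj (idObj R)),
      IsVert (FibCat.fp x x).p i.hom := by
    have key : ∀ (T : Over S) (B : Arr x T), T = R → B.toFp hX = E.obj (idObj R) →
        ∃ (ω : Arr x R) (i : ω.toFp hX ≅ E.obj (idObj R)), IsVert (FibCat.fp x x).p i.hom := by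
      rintro T B rfl hB
      exact ⟨B, eqToIso hB, isVert_eqToHom hB⟩
    exact key _ A (E.w_obj _) hA
  refine ⟨ω, i, hi, fun T => ⟨fun r r' e => ?_, fun B => ?_⟩⟩
  · have := full_of_isEquivOver hE
    let t : ∀ r : T ⟶ R, E.obj (Over.mk r) ⟶ ω.toFp hX := fun r =>
      E.map (toId (Over.mk r)) ≫ i.inv
    have ht : ∀ r : T ⟶ R, (FibCat.fp x x).p.map (t r) = eqToHom (E.w_obj (Over.mk r)) ≫ r := fun r => by
      have e : (FibCat.overCat R).p.map (toId (Over.mk r)) = r := rfl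
      show (FibCat.fp x x).p.map (E.map (toId (Over.mk r)) ≫ i.inv) = _
      rw [Functor.map_comp, map_map, (IsVert.inv hi).map_eq, e]
      simp
    have hfp := isFibGrpd_fp (F := x) (G := x) (isFibGrpd_overCat U) (isFibGrpd_overCat U) hX
    have hP : ∀ r : T ⟶ R, ∃ j : E.obj (Over.mk r) ≅ (ω.pull hX r).toFp hX,
        IsVert (FibCat.fp x x).p j.hom := fun r => by
      obtain ⟨j, hj, -⟩ := exists_vert_iso_of_lifts hfp (t r) (Arr.pullHom hX r ω)
        (E.w_obj (Over.mk r)) (ht r)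
      exact ⟨j, hj⟩
    obtain ⟨j, hj⟩ := hP r
    obtain ⟨j', hj'⟩ := hP r'
    let a := E.toFunctor.preimage (j.hom ≫ eqToHom (congrArg (Arr.toFp hX) e) ≫ j'.inv)
    have ha : IsVert (FibCat.overCat R).p a := isVert_of_map (F := E) (by
      rw [Functor.map_preimage]
      exact hj.comp ((isVert_eqToHom _).comp hj'.inv))
    obtain ⟨_, e'⟩ := ha
    have h1 : a.left = 𝟙 T := e'
    have := Over.w a
    rw [h1] at this
    exact this.symm.trans (Category.id_comp _)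
  · obtain ⟨g, φ, hφ⟩ := exists_vert_preimage hE (B.toFp hX)
    let ψ : B.toFp hX ⟶ ω.toFp hX := φ.inv ≫ E.map (toId g) ≫ i.inv
    exact ⟨(FibCat.fp x x).p.map ψ, (Arr.pull_eq hX _ ψ rfl).symm⟩

end OfEquiv

end Groth.StkSlice
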